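import Mathlib

/-!
# Translations of a commutative Hopf algebra by rational points

`trans x = (x ⊗ id) ∘ Δ` is an automorphism with `ε ∘ trans x = x`; over an algebraically closed
field every maximal ideal of a finitely generated Hopf algebra is a translate of the augmentation
ideal.
-/

set_option autoImplicit false
universe u v

open WithConv

namespace Groth.Agent.HopfTr48

noncomputable section

variable {k : Type u} {A : Type v} [Field k] [CommRing A] [HopfAlgebra k A]

/-- translation by a point, as an endomorphism -/
def transHom (x : A →ₐ[k] k) : A →ₐ[k] A :=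
  (toConv ((Algebra.ofId k A).comp x) * toConv (AlgHom.id k A)).ofConv

theorem transHom_comp (x y : A →ₐ[k] k) :
    (transHom x).comp (transHom y) = transHom (toConv y * toConv x).ofConv := by
  have h1 : (transHom x).comp (transHom y) =
      (toConv ((Algebra.ofId k A).comp y) * toConv (transHom x)).ofConv := by
    rw [show transHom y = (toConv ((Algebra.ofId k A).comp y) * toConv (AlgHom.id k A)).ofConv from rfl,
      AlgHom.comp_convMul_distrib]
    congr 3
    ext a
    exact (transHom x).commutes (y a)
  rw [h1, transHom, transHom, AlgHom.comp_convMul_distrib]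
  simp only [toConv_ofConv, mul_assoc, ofConv_toConv]

theorem transHom_one : transHom (1 : WithConv (A →ₐ[k] k)).ofConv = AlgHom.id k A := by
  have : toConv ((Algebra.ofId k A).comp (1 : WithConv (A →ₐ[k] k)).ofConv) =
      (1 : WithConv (A →ₐ[k] A)) := by
    apply ofConv_injective
    ext a
    simp
  rw [transHom, this, one_mul]

/-- translation by a point, as an automorphism -/
def trans (x : A →ₐ[k] k) : A ≃ₐ[k] A :=
  AlgEquiv.ofAlgHom (transHom x) (transHom ((toConv x)⁻¹).ofConv)
    (by rw [transHom_comp, toConv_ofConv, inv_mul_cancel, transHom_one])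
    (by rw [transHom_comp, toConv_ofConv, mul_inv_cancel, transHom_one])

theorem counit_comp_transHom (x : A →ₐ[k] k) :
    (Bialgebra.counitAlgHom k A).comp (transHom x) = x := by
  rw [transHom, AlgHom.comp_convMul_distrib]
  have h1 : (Bialgebra.counitAlgHom k A).comp ((Algebra.ofId k A).comp x) = x := by
    ext a; simp
  have h2 : toConv ((Bialgebra.counitAlgHom k A).comp (AlgHom.id k A)) =
      (1 : WithConv (A →ₐ[k] k)) := by
    apply ofConv_injective
    ext a
    simp
  rw [ofConv_toConv, ofConv_toConv, h1, h2, mul_one, ofConv_toConv]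

theorem counit_trans (x : A →ₐ[k] k) (a : A) : Bialgebra.counitAlgHom k A (trans x a) = x a :=
  DFunLike.congr_fun (counit_comp_transHom x) a

/-- rational points at maximal ideals over an algebraically closed field -/
theorem exists_point_ker_eq [IsAlgClosed k] [Algebra.FiniteType k A] (m : Ideal A) [m.IsMaximal] :
    ∃ x : A →ₐ[k] k, RingHom.ker x = m := by
  letI := Ideal.Quotient.field m
  haveI : Algebra.FiniteType k (A ⧸ m) :=
    Algebra.FiniteType.of_surjective (Ideal.Quotient.mkₐ k m) (Ideal.Quotient.mkₐ_surjective k m)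
  haveI : Module.Finite k (A ⧸ m) := finite_of_finite_type_of_isJacobsonRing k (A ⧸ m)
  let e : k ≃ₐ[k] A ⧸ m :=
    AlgEquiv.ofBijective (Algebra.ofId k (A ⧸ m)) (IsAlgClosed.algebraMap_bijective_of_isIntegral)
  refine ⟨(e.symm : (A ⧸ m) →ₐ[k] k).comp (Ideal.Quotient.mkₐ k m), ?_⟩
  ext a
  simp only [RingHom.mem_ker, AlgHom.comp_apply, AlgEquiv.coe_algHom,
    EmbeddingLike.map_eq_zero_iff, Ideal.Quotient.mkₐ_eq_mk, Ideal.Quotient.eq_zero_iff_mem]

/-- every maximal ideal is the preimage of the augmentation ideal under an automorphism -/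
theorem exists_algEquiv_comap_eq [IsAlgClosed k] [Algebra.FiniteType k A] (m : Ideal A) [m.IsMaximal] :
    ∃ e : A ≃ₐ[k] A, m = (RingHom.ker (Bialgebra.counitAlgHom k A)).comap (e : A →+* A) := by
  obtain ⟨x, rfl⟩ := exists_point_ker_eq (k := k) m
  refine ⟨trans x, ?_⟩
  ext a
  simp [RingHom.mem_ker, ← counit_trans x a]

/-- local rings at corresponding primes -/
def localizationEquiv {R S : Type*} [CommRing R] [CommRing S] (e : R ≃+* S) (q : Ideal S) [q.IsPrime]
    (p : Ideal R) [p.IsPrime] (h : p = q.comap (e : R →+* S)) :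
    Localization.AtPrime p ≃+* Localization.AtPrime q :=
  IsLocalization.ringEquivOfRingEquiv (M := p.primeCompl) (T := q.primeCompl) _ _ e (by
    subst h
    ext y
    simp only [Submonoid.mem_map, Ideal.mem_primeCompl_iff, Ideal.mem_comap]
    constructor
    · rintro ⟨a, ha, rfl⟩
      exact ha
    · exact fun hy => ⟨e.symm y, by simpa using hy, e.apply_symm_apply y⟩)

end

end Groth.Agent.HopfTr48
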