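import Groth.Agent.HopfTr48.Regular
import Groth.Agent.EGA4Lib.NorLocus
import Groth.Agent.GeomFieldLib.NormalRing
import Groth.Agent.GrpScheme.Rosenlicht.Tensor
import Groth.Agent.HopfShrink

/-!
# Connected reduced groups: domains, units are characters
-/

set_option autoImplicit false
universe u v

open TensorProduct

namespace Groth.Agent.HopfTr48

/-- a connected reduced affine algebraic group over an algebraically closed field is irreducible -/
theorem isDomain_of_connected {k : Type u} [Field k] [IsAlgClosed k] {A : Type u} [CommRing A]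
    [HopfAlgebra k A] [Algebra.FiniteType k A] [IsReduced A]
    (hconn : ∀ e : A, IsIdempotentElem e → e = 0 ∨ e = 1) : IsDomain A := by
  haveI : IsNoetherianRing A := Algebra.FiniteType.isNoetherianRing k A
  haveI : Nontrivial A := RingHom.domain_nontrivial (Bialgebra.counitAlgHom k A).toRingHom
  set I : Ideal A := RingHom.ker (Bialgebra.counitAlgHom k A)
  haveI : I.IsMaximal := RingHom.ker_isMaximal_of_surjective _ fun c => ⟨algebraMap k A c, by simp⟩
  obtain ⟨m₀, hm₀, hreg⟩ := exists_isMaximal_regular (k := k) (R := A)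
  haveI := hm₀
  obtain ⟨e₀, he₀⟩ := exists_algEquiv_comap_eq (k := k) m₀
  haveI : IsRegularLocalRing (Localization.AtPrime I) :=
    IsRegularLocalRing.of_ringEquiv (localizationEquiv e₀.toRingEquiv I m₀ he₀)
  have hnor : EGA4.IsNormalRing A := fun p _ => by
    obtain ⟨m, hm, hle⟩ := Ideal.exists_le_maximal p Ideal.IsPrime.ne_top'
    haveI := hm
    obtain ⟨e, he⟩ := exists_algEquiv_comap_eq (k := k) m
    have h : (⟨m, hm.isPrime⟩ : PrimeSpectrum A) ∈ EGA4.regLocus A :=
      IsRegularLocalRing.of_ringEquiv (localizationEquiv e.toRingEquiv I m he).symm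
    exact EGA4Lib.mem_norLocus_of_le (EGA4Lib.mem_norLocus_of_mem_regLocus h)
      (q := ⟨p, inferInstance⟩) hle
  exact (GeomFieldLib.isDomain_isIC_of_connected hnor
    (minimalPrimes.finite_of_isNoetherianRing A) hconn).1

/-- **Rosenlicht**: a unit with value `1` at the identity is a character -/
theorem comul_eq_tmul_self_small {k : Type u} [Field k] [IsAlgClosed k] {A : Type u} [CommRing A]
    [HopfAlgebra k A] [Algebra.FiniteType k A] [IsReduced A]
    (hconn : ∀ e : A, IsIdempotentElem e → e = 0 ∨ e = 1) (u : Aˣ)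
    (hu : Bialgebra.counitAlgHom k A u = 1) :
    Bialgebra.comulAlgHom k A u = (u : A) ⊗ₜ[k] (u : A) := by
  haveI := isDomain_of_connected (k := k) hconn
  set ε := Bialgebra.counitAlgHom k A
  obtain ⟨a, b, hab⟩ := GrpScheme.Rosenlicht.exists_tmul_eq
    (Units.map (Bialgebra.comulAlgHom k A).toRingHom.toMonoidHom u) ε ε
  have hab' : Coalgebra.comul (R := k) (u : A) = (a : A) ⊗ₜ[k] (b : A) := hab
  have h1 : (u : A) = ε b • (a : A) := by
    have h := congrArg (TensorProduct.rid k A) (Coalgebra.lTensor_counit_comul (R := k) (u : A))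
    rw [hab'] at h
    simpa [ε] using h.symm
  have h2 : (u : A) = ε a • (b : A) := by
    have h := congrArg (TensorProduct.lid k A) (Coalgebra.rTensor_counit_comul (R := k) (u : A))
    rw [hab'] at h
    simpa [ε] using h.symm
  have h3 : ε b * ε a = 1 := by
    conv_rhs => rw [← hu, h1, map_smul, smul_eq_mul]
  rw [Bialgebra.comulAlgHom_apply, hab']
  conv_rhs => arg 2; rw [h1]
  rw [show ((u : A)) = ε a • (b : A) from h2, ← smul_tmul', tmul_smul, smul_smul, h3, one_smul]

/-- **Rosenlicht**: a unit with value `1` at the identity is a character -/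
theorem comul_eq_tmul_self {k : Type u} [Field k] [IsAlgClosed k] {A : Type v} [CommRing A]
    [HopfAlgebra k A] [Algebra.FiniteType k A] [IsReduced A]
    (hconn : ∀ e : A, IsIdempotentElem e → e = 0 ∨ e = 1) (u : Aˣ)
    (hu : Bialgebra.counitAlgHom k A u = 1) :
    Bialgebra.comulAlgHom k A u = (u : A) ⊗ₜ[k] (u : A) := by
  obtain ⟨A', i1, i2, ⟨E⟩⟩ := HopfShrink.exists_model k A
  let e : A ≃ₐ[k] A' := E
  haveI : Algebra.FiniteType k A' := Algebra.FiniteType.equiv ‹_› e
  haveI : IsReduced A' := isReduced_of_injective e.symm e.symm.injective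
  have h := comul_eq_tmul_self_small (k := k) (A := A') (fun x hx => ?_)
    (Units.map (e : A →* A') u) ?_
  · apply (Algebra.TensorProduct.congr e e).injective
    have hc := CoalgHomClass.map_comp_comul_apply E (u : A)
    simp only [Algebra.TensorProduct.congr_apply, Bialgebra.comulAlgHom_apply,
      Algebra.TensorProduct.map_tmul]
    exact hc.trans (by simpa [e] using h)
  · rcases hconn (e.symm x) (hx.map e.symm) with h | h
    · exact Or.inl (e.symm.injective (h.trans (map_zero _).symm))
    · exact Or.inr (e.symm.injective (h.trans (map_one _).symm))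
  · simpa [e] using hu

end Groth.Agent.HopfTr48
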