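import Groth.Agent.HopfTr48.Translate
import Groth.Agent.EGA4Lib.J2

/-!
# Regular points of finitely generated algebras over a field
-/

set_option autoImplicit false
universe u v

open IsLocalRing

namespace Groth.Agent.HopfTr48

/-- localization of a reduced ring at a minimal prime is a field -/
theorem isField_localization_minimalPrime {R : Type v} [CommRing R] [IsReduced R] (p : Ideal R)
    [p.IsPrime] (hp : p ∈ minimalPrimes R) : IsField (Localization.AtPrime p) := by
  rw [IsLocalRing.isField_iff_maximalIdeal_eq, eq_bot_iff]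
  have hred : IsReduced (Localization.AtPrime p) := inferInstance
  rw [← nilradical_eq_bot_iff.mpr hred, nilradical_eq_sInf]
  refine le_sInf fun Q hQ => ?_
  haveI : Q.IsPrime := hQ
  have h1 : Q.comap (algebraMap R (Localization.AtPrime p)) ≤ p := by
    have := Ideal.comap_mono (f := algebraMap R (Localization.AtPrime p))
      (IsLocalRing.le_maximalIdeal hQ.ne_top)
    exact this.trans_eq (Localization.AtPrime.under_maximalIdeal)
  have h2 : p ≤ Q.comap (algebraMap R (Localization.AtPrime p)) :=
    hp.2 ⟨Ideal.comap_isPrime _ _, bot_le⟩ h1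
  rw [← Localization.AtPrime.map_eq_maximalIdeal]
  exact Ideal.map_le_iff_le_comap.mpr h2

/-- a nonzero reduced finitely generated algebra has a regular closed point -/
theorem exists_isMaximal_regular_small {k : Type u} [Field k] {R : Type u} [CommRing R] [Algebra k R]
    [Algebra.FiniteType k R] [IsReduced R] [Nontrivial R] :
    ∃ (m : Ideal R) (_ : m.IsMaximal), IsRegularLocalRing (Localization.AtPrime m) := by
  haveI : IsNoetherianRing R := Algebra.FiniteType.isNoetherianRing k R
  haveI : IsJacobsonRing R := isJacobsonRing_of_finiteType (A := k)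
  obtain ⟨M, hM⟩ := Ideal.exists_maximal R
  obtain ⟨p, hp, -⟩ := Ideal.exists_minimalPrimes_le (bot_le : (⊥ : Ideal R) ≤ M)
  haveI := hp.1.1
  have hreg : (⟨p, hp.1.1⟩ : PrimeSpectrum R) ∈ EGA4.regLocus R := by
    show IsRegularLocalRing (Localization.AtPrime p)
    have hF := isField_localization_minimalPrime p hp
    letI := hF.toField
    infer_instance
  have hopen : IsOpen (EGA4.regLocus R) :=
    Groth.Agent.EGA4Lib.isJ2_of_field k R inferInstance
  obtain ⟨q, hq, hqc⟩ := nonempty_inter_closedPoints ⟨_, hreg⟩ hopen.isLocallyClosed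
  exact ⟨q.asIdeal, (PrimeSpectrum.isClosed_singleton_iff_isMaximal q).mp hqc, hq⟩

/-- a nonzero reduced finitely generated algebra has a regular closed point -/
theorem exists_isMaximal_regular {k : Type u} [Field k] {R : Type v} [CommRing R] [Algebra k R]
    [Algebra.FiniteType k R] [IsReduced R] [Nontrivial R] :
    ∃ (m : Ideal R) (_ : m.IsMaximal), IsRegularLocalRing (Localization.AtPrime m) := by
  obtain ⟨n, f, hf⟩ := Algebra.FiniteType.iff_quotient_mvPolynomial''.mp ‹Algebra.FiniteType k R›
  let R' := MvPolynomial (Fin n) k ⧸ RingHom.ker f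
  let e : R' ≃+* R := (Ideal.quotientKerAlgEquivOfSurjective hf).toRingEquiv
  haveI : Algebra.FiniteType k R' :=
    Algebra.FiniteType.of_surjective (Ideal.Quotient.mkₐ k (RingHom.ker f))
      (Ideal.Quotient.mkₐ_surjective _ _)
  haveI : IsReduced R' := isReduced_of_injective e.toRingHom e.injective
  haveI : Nontrivial R' := e.toEquiv.nontrivial
  obtain ⟨m, hm, hreg⟩ := exists_isMaximal_regular_small (k := k) (R := R')
  haveI := hm
  haveI : (m.comap (e.symm : R →+* R')).IsMaximal :=
    Ideal.comap_isMaximal_of_surjective _ e.symm.surjective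
  exact ⟨_, this, IsRegularLocalRing.of_ringEquiv (localizationEquiv e.symm m _ rfl).symm⟩

/-- Regularity lifts along a surjection of local rings with nilpotent kernel inside `m²`. -/
theorem isRegularLocalRing_of_surjective {B : Type u} {R : Type v} [CommRing B] [CommRing R]
    [IsLocalRing B] [IsNoetherianRing B] [IsRegularLocalRing R] (f : B →+* R)
    (hf : Function.Surjective f) (hnil : RingHom.ker f ≤ nilradical B)
    (hsq : RingHom.ker f ≤ maximalIdeal B ^ 2) : IsRegularLocalRing B := by
  haveI : IsLocalHom f := ⟨fun b hb => by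
    by_contra hnu
    have hmem : b ∈ maximalIdeal B := hnu
    obtain ⟨c, hc⟩ := hf (↑hb.unit⁻¹ : R)
    have h1 : b * c - 1 ∈ RingHom.ker f := by
      rw [RingHom.mem_ker, map_sub, map_mul, hc, map_one, IsUnit.mul_val_inv, sub_self]
    have h2 : b * c - 1 ∈ maximalIdeal B :=
      Ideal.pow_le_self two_ne_zero (hsq h1)
    exact (maximalIdeal B).ne_top_iff_one.mp (maximalIdeal.isMaximal B).ne_top
      (by simpa using sub_mem (Ideal.mul_mem_right c _ hmem) h2)⟩
  have hdim : ringKrullDim R = ringKrullDim B := by
    rw [← ringKrullDim_eq_of_ringEquiv (RingHom.quotientKerEquivOfSurjective hf)]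
    refine le_antisymm (ringKrullDim_quotient_le _) ?_
    rw [ringKrullDim_quotient]
    exact Order.krullDim_le_of_strictMono
      (fun x : PrimeSpectrum B => (⟨x, fun t ht => nilradical_le_prime x.asIdeal (hnil ht)⟩ :
        PrimeSpectrum.zeroLocus (RingHom.ker f : Set B)))
      fun _ _ h => h
  obtain ⟨t, ht, hspan⟩ := Submodule.FG.exists_span_finset_card_eq_spanFinrank
    (maximalIdeal R).fg_of_isNoetherianRing
  choose g hg using fun y : t => hf y.1
  let J : Ideal B := Ideal.span (Set.range g)
  have hJ : maximalIdeal B ≤ J := by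
    refine Submodule.le_of_le_smul_of_le_jacobson_bot (maximalIdeal B).fg_of_isNoetherianRing
      (maximalIdeal_le_jacobson ⊥) ?_
    intro b hb
    have hfb : f b ∈ maximalIdeal R := map_nonunit f b hb
    have h1 : f b ∈ J.map f := by
      rw [Ideal.map_span, ← Set.range_comp]
      rw [← hspan] at hfb
      refine Ideal.span_mono ?_ hfb
      intro y hy
      exact ⟨⟨y, hy⟩, hg ⟨y, hy⟩⟩
    obtain ⟨j, hj, hjb⟩ := (Ideal.mem_map_iff_of_surjective f hf).mp h1
    refine Submodule.mem_sup.mpr ⟨j, hj, b - j, ?_, add_sub_cancel _ _⟩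
    rw [smul_eq_mul, ← pow_two]
    exact hsq (by rw [RingHom.mem_ker, map_sub, hjb, sub_self])
  have hJ' : J = maximalIdeal B := by
    refine le_antisymm (Ideal.span_le.mpr ?_) hJ
    rintro _ ⟨y, rfl⟩
    intro hu
    have := hu.map f
    rw [hg] at this
    exact (hspan ▸ Ideal.subset_span y.2 : (y : R) ∈ maximalIdeal R) this
  refine IsRegularLocalRing.of_spanFinrank_maximalIdeal_le B ?_
  rw [← hdim, ← IsRegularLocalRing.spanFinrank_maximalIdeal (R := R), ← hJ']
  refine Nat.cast_le.mpr ((Submodule.spanFinrank_span_le_ncard_of_finite (Set.finite_range g)).trans ?_)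
  rw [← ht]
  exact (Set.ncard_image_le (s := Set.univ) (f := g) Set.finite_univ |>.trans_eq' (by rw [Set.image_univ])).trans
    (by simp)

end Groth.Agent.HopfTr48
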